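import Cfsg.Agent.Weights.Over

/-!
Cross-characteristic lower bound for representations of `SL_n`.
-/

namespace Cfsg.Agent.Weights

open Matrix

variable {F : Type*} [Field F]

/-- the transvection group of the first row -/
def slRow {k : ℕ} (a : Fin k → F) : SpecialLinearGroup (Fin (1 + k)) F :=
  ⟨Matrix.reindexAlgEquiv F F finSumFinEquiv
    (fromBlocks 1 (replicateRow (Fin 1) a) 0 (1 : Matrix (Fin k) (Fin k) F)), by
    rw [Matrix.det_reindexAlgEquiv, Matrix.det_fromBlocks_zero₂₁, Matrix.det_one, Matrix.det_one,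
      mul_one]⟩

/-- the complementary `SL_k` -/
def slLow {k : ℕ} (h : SpecialLinearGroup (Fin k) F) : SpecialLinearGroup (Fin (1 + k)) F :=
  ⟨Matrix.reindexAlgEquiv F F finSumFinEquiv
    (fromBlocks (1 : Matrix (Fin 1) (Fin 1) F) 0 0 h.1), by
    rw [Matrix.det_reindexAlgEquiv, Matrix.det_fromBlocks_zero₂₁, Matrix.det_one, h.2, mul_one]⟩

theorem slRow_add {k : ℕ} (a b : Fin k → F) : slRow (a + b) = slRow a * slRow b := by
  refine Subtype.ext ?_
  change _ = Matrix.reindexAlgEquiv F F finSumFinEquiv _ * Matrix.reindexAlgEquiv F F finSumFinEquiv _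
  rw [← map_mul, fromBlocks_multiply]
  change Matrix.reindexAlgEquiv F F finSumFinEquiv _ = _
  congr 1
  simp [add_comm, replicateRow_add]

theorem slRow_mul_slLow {k : ℕ} (a : Fin k → F) (h : SpecialLinearGroup (Fin k) F) :
    slRow a * slLow h = slLow h * slRow (a ᵥ* h.1) := by
  refine Subtype.ext ?_
  change Matrix.reindexAlgEquiv F F finSumFinEquiv _ * Matrix.reindexAlgEquiv F F finSumFinEquiv _ =
    Matrix.reindexAlgEquiv F F finSumFinEquiv _ * Matrix.reindexAlgEquiv F F finSumFinEquiv _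
  rw [← map_mul, ← map_mul, fromBlocks_multiply, fromBlocks_multiply]
  congr 1
  simp [replicateRow_vecMul]

theorem slRow_not_center {k : ℕ} (j : Fin k) :
    slRow (Pi.single j (1 : F)) ∉ Subgroup.center (SpecialLinearGroup (Fin (1 + k)) F) := by
  intro h
  obtain ⟨r, -, hr⟩ := Matrix.SpecialLinearGroup.mem_center_iff.1 h
  have := congrFun (congrFun hr (Fin.castAdd k 0)) (Fin.natAdd 1 j)
  simp [slRow, Matrix.scalar_apply] at this
  rw [Matrix.diagonal_apply_ne _ (by simp [Fin.ext_iff]; omega)] at this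
  exact zero_ne_one this

theorem exists_sl_apply_single {k : ℕ} (hk : 2 ≤ k) (b : Fin k → F) (hb : b ≠ 0) :
    ∃ h : SpecialLinearGroup (Fin k) F, h.1 *ᵥ Pi.single ⟨0, by omega⟩ 1 = b := by
  classical
  set i₀ : Fin k := ⟨0, by omega⟩
  set l : Fin k := ⟨1, by omega⟩
  obtain ⟨j, hj⟩ := Function.ne_iff.1 hb
  rw [Pi.zero_apply] at hj
  have hl : l ≠ i₀ := by simp [l, i₀]
  set P : Matrix (Fin k) (Fin k) F := (Equiv.swap i₀ j).permMatrix F
  set g : Matrix (Fin k) (Fin k) F := (1 : Matrix (Fin k) (Fin k) F).updateCol j b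
  have hdet : (g * P).det ≠ 0 := by
    have hg : g.det = b j := by
      rw [← Matrix.cramer_apply, Matrix.cramer_one]
      rfl
    rw [Matrix.det_mul, Matrix.det_permutation, hg]
    exact mul_ne_zero hj (IsUnit.ne_zero
      ((Equiv.Perm.sign (Equiv.swap i₀ j)).isUnit.map (Int.castRingHom F)))
  set D : Matrix (Fin k) (Fin k) F := diagonal (Function.update (fun _ => (1 : F)) l ((g * P).det)⁻¹)
  refine ⟨⟨g * P * D, ?_⟩, ?_⟩
  · rw [Matrix.det_mul (g * P) D, Matrix.det_diagonal, Finset.prod_update_of_mem (Finset.mem_univ l)]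
    rw [Finset.prod_const_one, mul_one, mul_inv_cancel₀ hdet]
  · change (g * P * D) *ᵥ Pi.single i₀ 1 = b
    rw [← Matrix.mulVec_mulVec, ← Matrix.mulVec_mulVec, Matrix.diagonal_mulVec_single]
    rw [Function.update_of_ne hl.symm, one_mul, Matrix.permMatrix_mulVec]
    have : Pi.single i₀ (1 : F) ∘ ⇑(Equiv.swap i₀ j) = Pi.single j 1 := by
      ext i
      by_cases hij : i = j
      · subst hij; simp
      · have : Equiv.swap i₀ j i ≠ i₀ := fun h => hij (by
          rw [← Equiv.swap_apply_self i₀ j i, h, Equiv.swap_apply_left])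
        simp [Pi.single_apply, hij, this]
    rw [this]
    ext i
    simp [g, Matrix.updateCol_apply]

theorem sl_rep_dim_bound [Fintype F] {K : Type*} [Field K] (hK : ringChar K ≠ ringChar F)
    (k : ℕ) (hk : 2 ≤ k) {d : ℕ} (ρ : SpecialLinearGroup (Fin (1 + k)) F →* GL (Fin d) K)
    (hker : ρ.ker ≤ Subgroup.center (SpecialLinearGroup (Fin (1 + k)) F)) :
    Fintype.card F ^ k - 1 ≤ d := by
  classical
  set i₀ : Fin k := ⟨0, by omega⟩
  obtain ⟨φ, hφ, hφ1⟩ := exists_weight_char (F := F) hK ρ slRow slRow_add (Pi.single i₀ (1 : F))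
    (fun h => slRow_not_center i₀ (hker h))
  let ψ : AddChar F (AlgebraicClosure K) :=
    φ.compAddMonoidHom ((LinearMap.toSpanSingleton F (Fin k → F) (Pi.single i₀ 1)).toAddMonoidHom)
  have hψ1 : ψ 1 ≠ 1 := by simpa [ψ] using hφ1
  let Ψ : (Fin k → F) → AddChar (Fin k → F) (AlgebraicClosure K) := fun b =>
    { toFun := fun a => ψ (a ⬝ᵥ b)
      map_zero_eq_one' := by simp
      map_add_eq_mul' := fun a a' => by rw [add_dotProduct, AddChar.map_add_eq_mul] }
  have hΨ : Function.Injective Ψ := by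
    intro b b' h
    by_contra hne
    obtain ⟨j, hj⟩ := Function.ne_iff.1 hne
    have := DFunLike.congr_fun h (Pi.single j (b j - b' j)⁻¹)
    simp only [Ψ, AddChar.coe_mk, single_dotProduct] at this
    apply hψ1
    rw [← inv_mul_cancel₀ (sub_ne_zero.2 hj), mul_sub, AddChar.map_sub_eq_div, this]
    exact div_self (AddChar.val_isUnit ψ _).ne_zero
  obtain ⟨b₀, hb₀⟩ := character_eq_comp Ψ hΨ φ
  have hb₀0 : b₀ ≠ 0 := by
    rintro rfl
    apply hφ1
    rw [← hb₀]
    simp [Ψ]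
  have hall : ∀ b : {b : Fin k → F // b ≠ 0},
      IsWeight (fun a => closureRep ρ (slRow a)) ⇑(Ψ b.1) := by
    intro b
    obtain ⟨h₁, hh₁⟩ := exists_sl_apply_single hk b₀ hb₀0
    obtain ⟨h₂, hh₂⟩ := exists_sl_apply_single hk b.1 b.2
    have hb : (h₂ * h₁⁻¹).1 *ᵥ b₀ = b.1 := by
      rw [← hh₁]
      change (h₂.1 * (h₁⁻¹).1) *ᵥ (h₁.1 *ᵥ _) = _
      rw [Matrix.mulVec_mulVec, Matrix.mul_assoc,
        show (h₁⁻¹).1 * h₁.1 = 1 from congrArg Subtype.val (inv_mul_cancel h₁), Matrix.mul_one, hh₂]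
    have := isWeight_conj ρ slRow hφ (slLow (h₂ * h₁⁻¹)) (fun a => a ᵥ* (h₂ * h₁⁻¹).1)
      (fun a => slRow_mul_slLow a _)
    convert this using 1
    funext a
    rw [← hb₀, ← hb]
    simp [Ψ, Matrix.dotProduct_mulVec]
  have hcard := card_weights_le (fun a => closureRep ρ (slRow a))
    (fun b : {b : Fin k → F // b ≠ 0} => ⇑(Ψ b.1))
    (fun b b' h => Subtype.ext (hΨ (DFunLike.coe_injective h))) hall
  simpa [Fintype.card_subtype_compl, Module.finrank_fin_fun] using hcard

end Cfsg.Agent.Weights
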