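import Cfsg.Agent.Weights.Over
import Cfsg.Agent.WordLaws.Forms

/-!
Cross-characteristic lower bound for representations of `Sp_2n`, odd characteristic.
-/

namespace Cfsg.Agent.Weights

open Matrix Cfsg.Agent.WordLaws

variable {F : Type*} [Field F] {k : ℕ}

/-- symmetric matrix supported on the first row and column -/
def crossMat (v : Fin (k + 1) → F) : Matrix (Fin (k + 1)) (Fin (k + 1)) F :=
  vecMulVec (Pi.single 0 1) v + vecMulVec v (Pi.single 0 1) -
    v 0 • vecMulVec (Pi.single 0 1) (Pi.single 0 1)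

theorem crossMat_add (v w : Fin (k + 1) → F) : crossMat (v + w) = crossMat v + crossMat w := by
  ext i j
  simp [crossMat, vecMulVec_apply]
  ring

theorem crossMat_transpose (v : Fin (k + 1) → F) : (crossMat v)ᵀ = crossMat v := by
  ext i j
  simp [crossMat, vecMulVec_apply]
  ring

theorem crossMat_zero_apply (v : Fin (k + 1) → F) (j : Fin (k + 1)) : crossMat v 0 j = v j := by
  rcases eq_or_ne j 0 with rfl | hj
  · simp [crossMat, vecMulVec_apply]
  · simp [crossMat, vecMulVec_apply, hj]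

/-- the abelian unipotent subgroup of `Sp` -/
def spRow (v : Fin (k + 1) → F) : Matrix.symplecticGroup (Fin (k + 1)) F :=
  ⟨fromBlocks 1 (crossMat v) 0 1, by
    rw [SymplecticGroup.mem_iff, Matrix.J, fromBlocks_transpose, fromBlocks_multiply,
      fromBlocks_multiply]
    simp [crossMat_transpose]⟩

theorem spRow_add (v w : Fin (k + 1) → F) : spRow (v + w) = spRow v * spRow w := by
  apply Subtype.ext
  change _ = fromBlocks 1 (crossMat v) 0 1 * fromBlocks 1 (crossMat w) 0 1
  rw [fromBlocks_multiply]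
  simp [spRow, crossMat_add, add_comm]

/-- the induced map on parameters -/
def crossConj (g : Matrix (Fin (k + 1)) (Fin (k + 1)) F) (s : F) (v : Fin (k + 1) → F) :
    Fin (k + 1) → F :=
  s • (g *ᵥ v) + (s * (g *ᵥ v) 0 - s ^ 2 * v 0) • Pi.single 0 1

theorem crossMat_conj (g : Matrix (Fin (k + 1)) (Fin (k + 1)) F) (s : F)
    (hg : g *ᵥ Pi.single 0 1 = s • Pi.single 0 1) (v : Fin (k + 1) → F) :
    g * crossMat v * gᵀ = crossMat (crossConj g s v) := by
  have h : ∀ a b : Fin (k + 1) → F, g * vecMulVec a b * gᵀ = vecMulVec (g *ᵥ a) (g *ᵥ b) := by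
    intro a b
    rw [Matrix.mul_vecMulVec, Matrix.vecMulVec_mul, Matrix.vecMul_transpose]
  rw [crossMat, mul_sub, mul_add, sub_mul, add_mul, Matrix.mul_smul, Matrix.smul_mul, h, h, h, hg]
  ext i j
  simp [crossMat, crossConj, vecMulVec_apply]
  ring

theorem spRow_conj (g : SpecialLinearGroup (Fin (k + 1)) F) (s : F)
    (hg : g.1 *ᵥ Pi.single 0 1 = s • Pi.single 0 1) (v : Fin (k + 1) → F) :
    spRow v * (leviSp (k + 1) g)⁻¹ = (leviSp (k + 1) g)⁻¹ * spRow (crossConj g.1 s v) := by
  have key : leviSp (k + 1) g * spRow v = spRow (crossConj g.1 s v) * leviSp (k + 1) g := by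
    apply Subtype.ext
    change fromBlocks g.1 0 0 (g⁻¹).1ᵀ * fromBlocks 1 (crossMat v) 0 1 =
      fromBlocks 1 (crossMat (crossConj g.1 s v)) 0 1 * fromBlocks g.1 0 0 (g⁻¹).1ᵀ
    rw [fromBlocks_multiply, fromBlocks_multiply, ← crossMat_conj g.1 s hg]
    congr 1
    · simp
    · have : g.1ᵀ * (g⁻¹).1ᵀ = 1 := by
        rw [← Matrix.transpose_mul, coe_inv_mul_coe, Matrix.transpose_one]
      simp only [Matrix.mul_assoc, this, Matrix.mul_one, Matrix.mul_zero, zero_add, add_zero]
    · simp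
    · simp
  calc spRow v * (leviSp (k + 1) g)⁻¹
      = (leviSp (k + 1) g)⁻¹ * (leviSp (k + 1) g * spRow v) * (leviSp (k + 1) g)⁻¹ := by group
    _ = (leviSp (k + 1) g)⁻¹ * spRow (crossConj g.1 s v) := by rw [key]; group

theorem spRow_not_center :
    spRow (Pi.single 0 (1 : F)) ∉ Subgroup.center (Matrix.symplecticGroup (Fin (k + 1)) F) := by
  intro h
  have hj : (⟨Matrix.J (Fin (k + 1)) F, SymplecticGroup.J_mem _ _⟩ :
      Matrix.symplecticGroup (Fin (k + 1)) F) * spRow (Pi.single 0 1) =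
      spRow (Pi.single 0 1) * ⟨Matrix.J (Fin (k + 1)) F, SymplecticGroup.J_mem _ _⟩ :=
    Subgroup.mem_center_iff.1 h _
  have h2 : Matrix.J (Fin (k + 1)) F * fromBlocks 1 (crossMat (Pi.single 0 1)) 0 1 =
      fromBlocks 1 (crossMat (Pi.single 0 1)) 0 1 * Matrix.J (Fin (k + 1)) F :=
    congrArg Subtype.val hj
  rw [Matrix.J, fromBlocks_multiply, fromBlocks_multiply] at h2
  have h3 := congrFun (congrFun (Matrix.fromBlocks_inj.1 h2).1 0) 0
  simp [crossMat_zero_apply] at h3

/-- translation after scaling -/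
def spShift (hk : 1 ≤ k) (s : Fˣ) (w : Fin k → F) : SpecialLinearGroup (Fin (k + 1)) F :=
  ⟨(1 : Matrix (Fin (k + 1)) (Fin (k + 1)) F).updateRow 0 (Fin.cons 1 w) *
      diagonal (Fin.cons (s : F) (Function.update (fun _ => (1 : F)) ⟨0, hk⟩ (s : F)⁻¹)), by
    rw [Matrix.det_mul, Matrix.det_diagonal, Fin.prod_cons,
      Finset.prod_update_of_mem (Finset.mem_univ _), Finset.prod_const_one, mul_one,
      Matrix.det_of_isUpperTriangular]
    · rw [mul_inv_cancel₀ s.ne_zero, mul_one]
      apply Finset.prod_eq_one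
      intro i _
      rcases eq_or_ne i 0 with rfl | hi
      · simp
      · simp [hi]
    · intro i j hij
      have hi : i ≠ 0 := fun h => by rw [h] at hij; exact absurd hij (Fin.not_lt_zero j)
      rw [Matrix.updateRow_ne hi]
      exact Matrix.one_apply_ne (ne_of_gt hij)⟩

/-- the scaling factors -/
def spScale (hk : 1 ≤ k) (s : Fˣ) : Fin (k + 1) → F :=
  Fin.cons (s : F) (Function.update (fun _ => (1 : F)) ⟨0, hk⟩ (s : F)⁻¹)

theorem spScale_ne_zero (hk : 1 ≤ k) (s : Fˣ) (i : Fin (k + 1)) : spScale hk s i ≠ 0 := by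
  refine Fin.cases ?_ (fun j => ?_) i
  · simp [spScale]
  · rw [spScale, Fin.cons_succ]
    rcases eq_or_ne j ⟨0, hk⟩ with rfl | hj
    · simp
    · simp [Function.update_of_ne hj]

theorem spShift_mulVec (hk : 1 ≤ k) (s : Fˣ) (w : Fin k → F) (i : Fin (k + 1)) (x : F)
    (m : Fin (k + 1)) :
    ((spShift hk s w).1 *ᵥ Pi.single i x) m =
      (if m = 0 then (Fin.cons 1 w : Fin (k + 1) → F) i else if m = i then 1 else 0) *
        (spScale hk s i * x) := by
  change ((_ * diagonal (spScale hk s)) *ᵥ Pi.single i x) m = _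
  rw [← Matrix.mulVec_mulVec, Matrix.diagonal_mulVec_single, Matrix.mulVec_single]
  rcases eq_or_ne m 0 with rfl | hm
  · simp [mul_comm]
  · simp [hm, Matrix.one_apply, mul_comm]

theorem sp_rep_dim_bound [Fintype F] (hodd : Odd (Fintype.card F)) {K : Type*} [Field K]
    (hK : ringChar K ≠ ringChar F) (hk : 1 ≤ k) {d : ℕ}
    (ρ : ↥(Matrix.symplecticGroup (Fin (k + 1)) F) →* GL (Fin d) K)
    (hker : ρ.ker ≤ Subgroup.center ↥(Matrix.symplecticGroup (Fin (k + 1)) F)) :
    Fintype.card F ^ k * (Fintype.card F - 1) / 2 ≤ d := by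
  classical
  obtain ⟨φ, hφ, hφ1⟩ := exists_weight_char (F := F) hK ρ spRow spRow_add (Pi.single 0 (1 : F))
    (fun h => spRow_not_center (hker h))
  let ψ : AddChar F (AlgebraicClosure K) :=
    φ.compAddMonoidHom
      ((LinearMap.toSpanSingleton F (Fin (k + 1) → F) (Pi.single 0 1)).toAddMonoidHom)
  have hψ : ∀ x, ψ x = φ (Pi.single 0 x) := fun x => by
    simp [ψ, ← Pi.single_smul']
  have hψ1 : ψ 1 ≠ 1 := by rw [hψ]; exact hφ1
  have hprim : ∀ c c' : F, (∀ x, ψ (c * x) = ψ (c' * x)) → c = c' := by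
    intro c c' h
    by_contra hne
    apply hψ1
    have hz : c - c' ≠ 0 := sub_ne_zero.2 hne
    rw [← mul_inv_cancel₀ hz, sub_mul, AddChar.map_sub_eq_div, h]
    exact div_self (AddChar.val_isUnit ψ _).ne_zero
  have h2 : (2 : F) ≠ 0 := by
    intro h2
    refine (Nat.not_even_iff_odd.2 hodd) (Nat.even_iff.2 (FiniteField.even_card_iff_char_two.1 ?_))
    have : ringChar F ∣ 2 := ringChar.dvd (by exact_mod_cast h2)
    rcases (Nat.dvd_prime Nat.prime_two).1 this with h | h
    · exact absurd h CharP.ringChar_ne_one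
    · exact h
  obtain ⟨γ, hγ⟩ := IsCyclic.exists_generator (α := Fˣ)
  have hord : orderOf γ = Fintype.card F - 1 := by
    rw [orderOf_eq_card_of_forall_mem_zpowers hγ, Nat.card_eq_fintype_card, Fintype.card_units]
  let T : Fin ((Fintype.card F - 1) / 2) × (Fin k → F) → (Fin (k + 1) → F) → (Fin (k + 1) → F) :=
    fun p => crossConj (spShift hk (γ ^ (p.1 : ℕ)) p.2).1 ((γ ^ (p.1 : ℕ) : Fˣ) : F)
  have hfix : ∀ (s : Fˣ) (w : Fin k → F),
      (spShift hk s w).1 *ᵥ Pi.single 0 1 = (s : F) • Pi.single 0 1 := by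
    intro s w
    ext m
    rw [spShift_mulVec]
    rcases eq_or_ne m 0 with rfl | hm
    · simp [spScale]
    · simp [hm]
  have hT0 : ∀ p x, T p (Pi.single 0 x) =
      Pi.single 0 ((((γ ^ (p.1 : ℕ) : Fˣ) : F)) ^ 2 * x) := by
    intro p x
    ext m
    simp only [T, crossConj, Pi.add_apply, Pi.smul_apply, smul_eq_mul, spShift_mulVec]
    rcases eq_or_ne m 0 with rfl | hm
    · simp [spScale]
      ring
    · simp [hm]
  have hTj : ∀ p (j : Fin k) x, T p (Pi.single j.succ x) =
      Pi.single j.succ (((γ ^ (p.1 : ℕ) : Fˣ) : F) * (spScale hk (γ ^ (p.1 : ℕ)) j.succ * x)) +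
        Pi.single 0 (2 * ((γ ^ (p.1 : ℕ) : Fˣ) : F) * p.2 j *
          (spScale hk (γ ^ (p.1 : ℕ)) j.succ * x)) := by
    intro p j x
    ext m
    simp only [T, crossConj, Pi.add_apply, Pi.smul_apply, smul_eq_mul, spShift_mulVec]
    rcases eq_or_ne m 0 with rfl | hm
    · simp [Fin.cons_succ, (Fin.succ_ne_zero j).symm]
      ring
    · rcases eq_or_ne m j.succ with rfl | hmj
      · simp [hm]
      · simp [hm, hmj]
  have hinj : Function.Injective fun p => (φ ∘ T p : (Fin (k + 1) → F) → AlgebraicClosure K) := by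
    rintro ⟨i, w⟩ ⟨i', w'⟩ h
    have h0 := fun x => congrFun h (Pi.single 0 x)
    simp only [Function.comp_apply, hT0, ← hψ] at h0
    have hsq := hprim _ _ h0
    have hi : i = i' := by
      apply Fin.ext
      simp only [← Units.val_pow_eq_pow_val] at hsq
      have h1 : γ ^ ((i : ℕ) * 2) = γ ^ ((i' : ℕ) * 2) := by
        rw [pow_mul, pow_mul]; exact Units.ext hsq
      have hb : ∀ l : Fin ((Fintype.card F - 1) / 2), (l : ℕ) * 2 ∈ Set.Iio (orderOf γ) := fun l => by
        rw [Set.mem_Iio, hord]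
        have := l.2
        omega
      have := pow_injOn_Iio_orderOf (hb i) (hb i') h1
      omega
    subst hi
    refine Prod.ext rfl (funext fun j => ?_)
    set s : Fˣ := γ ^ (i : ℕ)
    have hs : (2 * (s : F)) * spScale hk s j.succ ≠ 0 :=
      mul_ne_zero (mul_ne_zero h2 s.ne_zero) (spScale_ne_zero hk s _)
    refine mul_left_cancel₀ hs (hprim _ _ fun x => ?_)
    have hx := congrFun h (Pi.single j.succ x)
    simp only [Function.comp_apply, hTj, AddChar.map_add_eq_mul, ← hψ] at hx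
    have := mul_left_cancel₀ (AddChar.val_isUnit φ _).ne_zero hx
    calc ψ ((2 * (s : F)) * spScale hk s j.succ * w j * x)
        = ψ (2 * (s : F) * w j * (spScale hk s j.succ * x)) := by congr 1; ring
      _ = ψ (2 * (s : F) * w' j * (spScale hk s j.succ * x)) := this
      _ = _ := by congr 1; ring
  have hall : ∀ p, IsWeight (fun a => closureRep ρ (spRow a)) (φ ∘ T p) := fun p =>
    isWeight_conj ρ spRow hφ _ (T p) (fun a => spRow_conj _ _ (hfix _ _) a)
  have hcard := card_weights_le (fun a => closureRep ρ (spRow a)) (fun p => φ ∘ T p) hinj hall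
  simp only [Fintype.card_prod, Fintype.card_fin, Fintype.card_fun, Module.finrank_fin_fun] at hcard
  rw [Nat.mul_div_assoc _ (Nat.Odd.sub_odd hodd odd_one).two_dvd, mul_comm]
  exact hcard

end Cfsg.Agent.Weights
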