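import Cfsg.Agent.Weights.Basic
import Cfsg.Agent.Suzuki.LieModel

/-!
The minimal faithful complex degree of a Suzuki group.
-/

namespace Cfsg.Agent.Weights

open Cfsg.Agent.Suzuki

variable {F : Type*} [Field F] [Fintype F] {m : ℕ} [hS : SuzukiField F m]

variable {V : Type*} [AddCommGroup V] [Module ℂ V]

include hS

theorem gT_zero_left_mul (a b : F) : (gT 0 a * gT 0 b : Cfsg.Sz F m) = gT 0 (a + b) := by
  rw [gT_mul]
  simp

theorem gT_zero_left_comm (a b c : F) :
    (gT 0 c * gT a b : Cfsg.Sz F m) = gT a b * gT 0 c := by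
  rw [gT_mul, gT_mul]
  congr 1 <;> simp [add_comm]

theorem gT_swap (a c : F) :
    (gT a 0 * gT c 0 : Cfsg.Sz F m) =
      gT 0 (th F m a * c + th F m c * a) * (gT c 0 * gT a 0) := by
  rw [gT_mul, gT_mul, gT_mul]
  congr 1
  · simp [add_comm]
  · simp [add_assoc, CharTwo.add_self_eq_zero]

/-- the simultaneous eigenspace of the centre of the unipotent radical -/
noncomputable def centerSpace (R : Cfsg.Sz F m →* Module.End ℂ V) (φ : AddChar F ℂ) (c : F) :
    Submodule ℂ V :=
  ⨅ b : F, LinearMap.ker (R (gT 0 b) - φ (c * b) • LinearMap.id)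

theorem mem_centerSpace {R : Cfsg.Sz F m →* Module.End ℂ V} {φ : AddChar F ℂ} {c : F} {v : V} :
    v ∈ centerSpace R φ c ↔ ∀ b, R (gT 0 b) v = φ (c * b) • v := by
  simp [centerSpace, sub_eq_zero]

theorem sum_finrank_centerSpace [FiniteDimensional ℂ V] (R : Cfsg.Sz F m →* Module.End ℂ V)
    (φ : AddChar F ℂ) (hprim : ∀ c c' : F, (∀ x, φ (c * x) = φ (c' * x)) → c = c')
    (s : Finset F) :
    ∑ c ∈ s, Module.finrank ℂ (centerSpace R φ c) ≤ Module.finrank ℂ V := by
  classical
  let f : ((c : s) → centerSpace R φ c.1) →ₗ[ℂ] V :=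
    ∑ c : s, (centerSpace R φ c.1).subtype ∘ₗ LinearMap.proj c
  have hf : Function.Injective f := by
    rw [← LinearMap.ker_eq_bot, LinearMap.ker_eq_bot']
    intro x hx
    by_contra hne
    obtain ⟨c₀, hc₀⟩ := Function.ne_iff.1 hne
    let ι := {c : s // x c ≠ 0}
    have hli := linearIndependent_weightVec (ι := ι) (fun b => R (gT 0 b))
      (fun i b => φ (i.1.1 * b))
      (fun i j h => Subtype.ext (Subtype.ext (hprim _ _ (congrFun h))))
      (fun i => ((x i.1 : centerSpace R φ i.1.1) : V))
      (fun i => ⟨fun h => i.2 (Subtype.ext h), mem_centerSpace.1 (x i.1).2⟩)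
    have hsum : ∑ i : ι, (1 : ℂ) • ((x i.1 : centerSpace R φ i.1.1) : V) = 0 := by
      simp only [one_smul]
      rw [← hx]
      simp only [f, LinearMap.sum_apply, LinearMap.comp_apply, LinearMap.proj_apply,
        Submodule.subtype_apply]
      rw [← Finset.sum_subtype (Finset.univ.filter fun c : s => x c ≠ 0) (by simp)
        (fun c : s => ((x c : centerSpace R φ c.1) : V)), Finset.sum_filter_of_ne]
      intro c _ h h0
      exact h (by rw [h0]; rfl)
    exact one_ne_zero (Fintype.linearIndependent_iff.1 hli (fun _ => 1) hsum ⟨c₀, hc₀⟩)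
  have h := LinearMap.finrank_le_finrank_of_injective hf
  rw [Module.finrank_pi_fintype] at h
  rwa [← Finset.sum_coe_sort]

theorem finrank_centerSpace_ge [FiniteDimensional ℂ V] (R : Cfsg.Sz F m →* Module.End ℂ V)
    (φ : AddChar F ℂ) (hprim : ∀ c c' : F, (∀ x, φ (c * x) = φ (c' * x)) → c = c')
    (hne : centerSpace R φ 1 ≠ ⊥) :
    2 ^ m ≤ Module.finrank ℂ (centerSpace R φ 1) := by
  classical
  set W := centerSpace R φ 1 with hW
  have hinv : ∀ a b : F, ∀ v ∈ W, R (gT a b) v ∈ W := by
    intro a b v hv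
    rw [hW, mem_centerSpace] at hv ⊢
    intro c
    rw [← Module.End.mul_apply, ← map_mul, gT_zero_left_comm, map_mul, Module.End.mul_apply, hv,
      map_smul]
  let U : F → Module.End ℂ W := fun a => (R (gT a 0)).restrict (hinv a 0)
  let U' : F → Module.End ℂ W := fun a => (R (gT a (th F m a * a))).restrict (hinv a _)
  have hUU' : ∀ a, U a * U' a = 1 := by
    intro a
    apply LinearMap.ext
    intro v
    apply Subtype.ext
    change R (gT a 0) (R (gT a (th F m a * a)) v.1) = v.1
    rw [← Module.End.mul_apply, ← map_mul, gT_mul,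
      show (a + a : F) = 0 from CharTwo.add_self_eq_zero a,
      show (0 + th F m a * a + th F m a * a : F) = 0 by rw [zero_add, CharTwo.add_self_eq_zero],
      gT_zero, map_one, Module.End.one_apply]
  let B : F → F → F := fun c a => th F m c * a + th F m a * c
  have hswap : ∀ c a, U c * U a = φ (B c a) • (U a * U c) := by
    intro c a
    apply LinearMap.ext
    intro v
    apply Subtype.ext
    change R (gT c 0) (R (gT a 0) v.1) = φ (B c a) • R (gT a 0) (R (gT c 0) v.1)
    have hv2 := mem_centerSpace.1 (hinv a 0 _ (hinv c 0 _ v.2))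
    have := hv2 (B c a)
    rw [one_mul] at this
    rw [← this, ← Module.End.mul_apply, ← Module.End.mul_apply, ← Module.End.mul_apply, ← map_mul,
      ← map_mul, ← map_mul, gT_swap c a, mul_assoc]
  let K : F → Module.End ℂ (Module.End ℂ W) := fun c =>
    (LinearMap.mulLeft ℂ (U c)).comp (LinearMap.mulRight ℂ (U' c))
  let χ : F → F → ℂ := fun a c => φ (B c a)
  have : Nontrivial W := Submodule.nontrivial_iff_ne_bot.2 hne
  have hw : ∀ a, IsWeightVec K (χ a) (U a) := by
    refine fun a => ⟨left_ne_zero_of_mul_eq_one (hUU' a), fun c => ?_⟩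
    change U c * (U a * U' c) = φ (B c a) • U a
    rw [← mul_assoc, hswap, smul_mul_assoc, mul_assoc, hUU', mul_one]
  obtain ⟨e, he⟩ := character_eq_comp (fun e => φ.mulShift e)
    (fun x y h => hprim x y fun z => by simpa [AddChar.mulShift_apply] using DFunLike.congr_fun h z)
    (φ.compAddMonoidHom (th F m).toAddMonoidHom)
  have he' : ∀ z, φ (th F m z) = φ (e * z) := fun z => by
    have := DFunLike.congr_fun he z
    simpa [AddChar.mulShift_apply] using this.symm
  have hfib : ∀ a a', χ a = χ a' → a' = a ∨ a' = a + th F m e := by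
    intro a a' h
    have hx : ∀ c, φ (B c (a + a')) = 1 := by
      intro c
      have h1 : B c (a + a') = B c a + B c a' := by simp only [B, map_add]; ring
      have h2 : φ (B c a) = φ (B c a') := congrFun h c
      rw [h1, AddChar.map_add_eq_mul, h2, ← AddChar.map_add_eq_mul, CharTwo.add_self_eq_zero,
        AddChar.map_zero_eq_one]
    obtain ⟨r, hr⟩ := (th_bijective (F := F) (m := m)).2 (a + a')
    have hcz : e * r + th F m (a + a') = 0 := by
      apply hprim
      intro c
      rw [zero_mul, AddChar.map_zero_eq_one, add_mul, AddChar.map_add_eq_mul]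
      have := hx c
      simp only [B] at this
      rw [AddChar.map_add_eq_mul] at this
      nth_rewrite 1 [← hr] at this
      rw [← map_mul (th F m), he'] at this
      rw [mul_assoc, mul_comm r c]
      exact this
    have h3 := congrArg (th F m) hcz
    rw [map_add, map_mul, hr, th_th, map_zero] at h3
    have h4 : (a + a') * (th F m e + (a + a')) = 0 := by rw [← h3]; ring
    rcases mul_eq_zero.1 h4 with h5 | h5
    · exact Or.inl (CharTwo.add_eq_zero.1 h5).symm
    · refine Or.inr ?_
      rw [CharTwo.add_eq_zero.1 h5, ← add_assoc, CharTwo.add_self_eq_zero, zero_add]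
  let S : Finset (F → ℂ) := Finset.univ.image χ
  have hcard : (Finset.univ : Finset F).card ≤ 2 * S.card := by
    refine Finset.card_le_mul_card_image _ 2 fun f hf => ?_
    obtain ⟨a, -, rfl⟩ := Finset.mem_image.1 hf
    refine (Finset.card_le_card (t := {a, a + th F m e}) fun a' ha' => ?_).trans Finset.card_le_two
    rw [Finset.mem_insert, Finset.mem_singleton]
    exact hfib a a' (Finset.mem_filter.1 ha').2.symm
  have hle := card_weights_le (ι := S) K (fun f => f.1) Subtype.val_injective (fun f => by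
    obtain ⟨a, -, ha⟩ := Finset.mem_image.1 f.2
    exact ⟨U a, ha ▸ hw a⟩)
  rw [Fintype.card_coe, Module.finrank_linearMap] at hle
  rw [Finset.card_univ, hS.card, pow_succ', mul_comm 2 m, pow_mul, sq] at hcard
  exact Nat.mul_self_le_mul_self_iff.1 (le_trans (by omega) hle)

theorem sz_rep_dim [FiniteDimensional ℂ V] (R : Cfsg.Sz F m →* Module.End ℂ V)
    (hR : ∀ g, R g = 1 → g = 1) :
    (Fintype.card F - 1) * 2 ^ m ≤ Module.finrank ℂ V := by
  classical
  have hinjR : ∀ g, Function.Injective (R g) := fun g x y h => by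
    have := congrArg (R g⁻¹) h
    rwa [← Module.End.mul_apply, ← Module.End.mul_apply, ← map_mul, inv_mul_cancel, map_one,
      Module.End.one_apply, Module.End.one_apply] at this
  have hcomm : ∀ a b : F, R (gT 0 a) * R (gT 0 b) = R (gT 0 b) * R (gT 0 a) := fun a b => by
    rw [← map_mul, ← map_mul, gT_zero_left_mul, gT_zero_left_mul, add_comm]
  obtain ⟨χ, hχ, hχ1⟩ := exists_weight_ne_one (fun b => R (gT 0 b)) hcomm (1 : F) 2 (by norm_num)
    (by rw [sq, ← map_mul, gT_zero_left_mul, CharTwo.add_self_eq_zero, gT_zero, map_one])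
    (fun h => one_ne_zero ((gT_eq_one (hR _ h)).2))
  obtain ⟨v, hv0, hv⟩ := hχ
  dsimp only at hv
  have hadd : ∀ a b, χ (a + b) = χ a * χ b := fun a b => smul_left_injective ℂ hv0 (by
    change χ (a + b) • v = (χ a * χ b) • v
    rw [← hv, ← gT_zero_left_mul, map_mul, Module.End.mul_apply, hv, map_smul, hv, smul_smul,
      mul_comm])
  have h0 : χ 0 = 1 := smul_left_injective ℂ hv0 (by
    change χ 0 • v = (1 : ℂ) • v
    rw [← hv, gT_zero, map_one, Module.End.one_apply, one_smul])
  let φ : AddChar F ℂ := ⟨χ, h0, hadd⟩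
  have hprim : ∀ c c' : F, (∀ x, φ (c * x) = φ (c' * x)) → c = c' := by
    intro c c' h
    by_contra hne
    apply hχ1
    change φ 1 = 1
    rw [← mul_inv_cancel₀ (sub_ne_zero.2 hne), sub_mul, AddChar.map_sub_eq_div, h]
    exact div_self (AddChar.val_isUnit φ _).ne_zero
  have hbase : centerSpace R φ 1 ≠ ⊥ := (Submodule.ne_bot_iff _).2
    ⟨v, mem_centerSpace.2 (fun b => by rw [one_mul]; exact hv b), hv0⟩
  let lam : Fˣ → Fˣ := fun l => Units.mk0 (th F m l ^ 2 * (l : F) ^ 2)
    (mul_ne_zero (pow_ne_zero 2 (by rw [map_ne_zero]; exact l.ne_zero)) (pow_ne_zero 2 l.ne_zero))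
  have hlam : Function.Surjective lam := by
    apply Finite.injective_iff_surjective.1
    intro l l' h
    have h1 : (th F m l * (l : F)) ^ 2 = (th F m l' * (l' : F)) ^ 2 := by
      rw [mul_pow, mul_pow]; exact congrArg Units.val h
    have h2 := sq_injective h1
    have h3 : th F m ((l : F) / l') * ((l : F) / l') = 1 := by
      rw [map_div₀, div_mul_div_comm, h2]
      exact div_self (mul_ne_zero (by rw [map_ne_zero]; exact l'.ne_zero) l'.ne_zero)
    exact Units.ext ((div_eq_one_iff_eq l'.ne_zero).1 (th_mul_self_eq_one h3))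
  have hdim : ∀ c ∈ (Finset.univ.erase (0 : F)),
      2 ^ m ≤ Module.finrank ℂ (centerSpace R φ c) := by
    intro c hc
    refine (finrank_centerSpace_ge R φ hprim hbase).trans ?_
    obtain ⟨l, hl⟩ := hlam (Units.mk0 c⁻¹ (inv_ne_zero (Finset.ne_of_mem_erase hc)))
    have hl' : th F m l ^ 2 * (l : F) ^ 2 = c⁻¹ := congrArg Units.val hl
    have hmap : ∀ x ∈ centerSpace R φ 1, R (gD l) x ∈ centerSpace R φ c := by
      intro x hx
      rw [mem_centerSpace] at hx ⊢
      intro b
      have hc0 : c ≠ 0 := Finset.ne_of_mem_erase hc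
      have hcomm' : (gT 0 b * gD l : Cfsg.Sz F m) = gD l * gT 0 (c * b) := by
        rw [gD_conj_gT, mul_zero, hl', inv_mul_cancel_left₀ hc0]
      rw [← Module.End.mul_apply, ← map_mul, hcomm', map_mul, Module.End.mul_apply, hx, one_mul,
        map_smul]
    exact LinearMap.finrank_le_finrank_of_injective (f := (R (gD l)).restrict hmap)
      (fun x y h => Subtype.ext (hinjR _ (congrArg Subtype.val h)))
  calc (Fintype.card F - 1) * 2 ^ m = ∑ _c ∈ Finset.univ.erase (0 : F), 2 ^ m := by
        rw [Finset.sum_const, Finset.card_erase_of_mem (Finset.mem_univ _), Finset.card_univ,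
          smul_eq_mul]
    _ ≤ ∑ c ∈ Finset.univ.erase (0 : F), Module.finrank ℂ (centerSpace R φ c) :=
        Finset.sum_le_sum hdim
    _ ≤ _ := sum_finrank_centerSpace R φ hprim _

omit hS in
theorem lieSz_irreducible_dim (hm : 1 ≤ m) (hF : Fintype.card F = 2 ^ (2 * m + 1)) (k : ℕ)
    (ρ : Representation ℂ (Cfsg.Lie.Sz F (2 ^ (m + 1))) (Fin k → ℂ)) (hρ : ρ.IsIrreducible)
    (hk : 2 ≤ k) : 2 ^ m * (2 ^ (2 * m + 1) - 1) ≤ k := by
  haveI : SuzukiField F m := ⟨hm, hF⟩
  haveI := sz_isSimple (F := F) (m := m)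
  let R : Cfsg.Sz F m →* Module.End ℂ (Fin k → ℂ) := ρ.comp (szEquivLie F m).toMonoidHom
  rcases (inferInstance : R.ker.Normal).eq_bot_or_eq_top with h | h
  · have := sz_rep_dim R (fun g hg => by
      have : g ∈ R.ker := hg
      rwa [h, Subgroup.mem_bot] at this)
    rw [hF, Module.finrank_fin_fun] at this
    rwa [mul_comm]
  · exfalso
    have htriv : ∀ g, ρ g = 1 := fun g => by
      have : (szEquivLie F m).symm g ∈ R.ker := h ▸ Subgroup.mem_top _
      simpa [R] using MonoidHom.mem_ker.1 this
    let x₀ : Fin k → ℂ := Pi.single ⟨0, by omega⟩ 1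
    let W : Subrepresentation ρ :=
      { toSubmodule := Submodule.span ℂ {x₀}
        apply_mem_toSubmodule := fun g v hv => by rwa [htriv, Module.End.one_apply] }
    rcases hρ.eq_bot_or_eq_top W with hW | hW
    · have : x₀ ∈ (⊥ : Submodule ℂ (Fin k → ℂ)) := by
        have h1 : Submodule.span ℂ {x₀} = ⊥ := congrArg Subrepresentation.toSubmodule hW
        rw [← h1]
        exact Submodule.mem_span_singleton_self x₀
      simp [x₀] at this
    · have h1 : Submodule.span ℂ {x₀} = ⊤ := congrArg Subrepresentation.toSubmodule hW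
      have := finrank_span_singleton (K := ℂ) (show x₀ ≠ 0 by simp [x₀])
      rw [h1, finrank_top, Module.finrank_fin_fun] at this
      omega

end Cfsg.Agent.Weights
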