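import Mathlib

/-!
Weights of a family of commuting operators of finite order prime to the characteristic:
existence, independence, and the resulting dimension bounds.
-/

namespace Cfsg.Agent.Weights

open Module

variable {L : Type*} [Field L] {A : Type*} {V : Type*} [AddCommGroup V] [Module L V]

/-- `v` is a weight vector of weight `χ` for the family `R`. -/
def IsWeightVec (R : A → End L V) (χ : A → L) (v : V) : Prop :=
  v ≠ 0 ∧ ∀ a, R a v = χ a • v

/-- `χ` is a weight of the family `R`. -/
def IsWeight (R : A → End L V) (χ : A → L) : Prop := ∃ v, IsWeightVec R χ v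

/-- weight vectors of pairwise distinct weights are linearly independent -/
theorem linearIndependent_weightVec {ι : Type*} (R : A → End L V) (χ : ι → A → L)
    (hχ : Function.Injective χ) (v : ι → V) (hv : ∀ i, IsWeightVec R (χ i) (v i)) :
    LinearIndependent L v := by
  classical
  rw [linearIndependent_iff']
  intro s
  induction s using Finset.induction_on with
  | empty => simp
  | @insert k s hk ih =>
    intro c hc
    have hzero : ∀ i ∈ s, c i = 0 := by
      intro i hi
      obtain ⟨a, ha⟩ : ∃ a, χ i a ≠ χ k a := by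
        by_contra! h
        exact hk ((hχ (funext h)) ▸ hi)
      have h1 : ∑ j ∈ s, (c j * (χ j a - χ k a)) • v j = 0 := by
        have h2 := congrArg (fun x => R a x - χ k a • x) hc
        simp only [Finset.sum_insert hk, map_add, map_smul, (hv _).2 a, smul_add, map_zero,
          smul_zero, sub_zero, map_sum, Finset.smul_sum, smul_smul] at h2
        rw [mul_comm (χ k a) (c k)] at h2
        rw [add_sub_add_left_eq_sub, ← Finset.sum_sub_distrib] at h2
        refine Eq.trans (Finset.sum_congr rfl fun j _ => ?_) h2
        rw [← sub_smul]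
        congr 1
        ring
      exact (mul_eq_zero.1 (ih _ h1 i hi)).resolve_right (sub_ne_zero.2 ha)
    intro i hi
    rcases Finset.mem_insert.1 hi with rfl | hi
    · rw [Finset.sum_insert hk, Finset.sum_eq_zero (fun j hj => by rw [hzero j hj, zero_smul]),
        add_zero] at hc
      exact (smul_eq_zero.1 hc).resolve_right (hv i).1
    · exact hzero i hi

/-- the number of distinct weights is at most the dimension -/
theorem card_weights_le [FiniteDimensional L V] {ι : Type*} [Fintype ι] (R : A → End L V)
    (χ : ι → A → L) (hχ : Function.Injective χ) (h : ∀ i, IsWeight R (χ i)) :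
    Fintype.card ι ≤ finrank L V := by
  choose v hv using h
  exact (linearIndependent_weightVec R χ hχ v hv).fintype_card_le_finrank

/-- transport of weights along a semilinear-in-the-index intertwiner -/
theorem IsWeight.transport {R : A → End L V} {χ : A → L} (h : IsWeight R χ) (T : End L V)
    (hT : Function.Injective T) (σ : A → A) (hσ : ∀ a, R a * T = T * R (σ a)) :
    IsWeight R (χ ∘ σ) := by
  obtain ⟨v, hv0, hv⟩ := h
  refine ⟨T v, fun h0 => hv0 (hT (h0.trans (map_zero T).symm)), fun a => ?_⟩
  rw [← Module.End.mul_apply, hσ, Module.End.mul_apply, hv, map_smul]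
  rfl

theorem exists_common_eigen [IsAlgClosed L] [FiniteDimensional L V] (R : A → End L V)
    (hcomm : ∀ a b, R a * R b = R b * R a) (W : Submodule L V) (hW : W ≠ ⊥)
    (hinv : ∀ a, ∀ x ∈ W, R a x ∈ W) (s : List A) :
    ∃ W' : Submodule L V, W' ≤ W ∧ W' ≠ ⊥ ∧ (∀ a, ∀ x ∈ W', R a x ∈ W') ∧
      ∀ a ∈ s, ∃ c : L, ∀ x ∈ W', R a x = c • x := by
  induction s with
  | nil => exact ⟨W, le_rfl, hW, hinv, by simp⟩
  | cons b s ih =>
    obtain ⟨W', hle, hne, hinv', hs⟩ := ih
    have : Nontrivial W' := Submodule.nontrivial_iff_ne_bot.2 hne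
    obtain ⟨c, hc⟩ := Module.End.exists_eigenvalue ((R b).restrict (hinv' b))
    obtain ⟨x, hx, hx0⟩ := hc.exists_hasEigenvector
    refine ⟨W' ⊓ LinearMap.ker (R b - c • LinearMap.id), inf_le_left.trans hle, ?_, ?_, ?_⟩
    · rw [Submodule.ne_bot_iff]
      refine ⟨(x : V), Submodule.mem_inf.2 ⟨x.2, ?_⟩, fun h => hx0 (Subtype.ext h)⟩
      rw [LinearMap.mem_ker, LinearMap.sub_apply, LinearMap.smul_apply, LinearMap.id_apply]
      have hx' := congrArg Subtype.val (Module.End.mem_eigenspace_iff.1 hx)
      rw [LinearMap.restrict_coe_apply, Submodule.coe_smul] at hx'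
      rw [hx', sub_self]
    · intro a y hy
      obtain ⟨hy1, hy2⟩ := Submodule.mem_inf.1 hy
      refine Submodule.mem_inf.2 ⟨hinv' a y hy1, ?_⟩
      rw [LinearMap.mem_ker, LinearMap.sub_apply, LinearMap.smul_apply, LinearMap.id_apply,
        sub_eq_zero] at hy2 ⊢
      rw [← Module.End.mul_apply, hcomm, Module.End.mul_apply, hy2, map_smul]
    · intro a ha
      rcases List.mem_cons.1 ha with rfl | ha
      · refine ⟨c, fun y hy => ?_⟩
        have := (Submodule.mem_inf.1 hy).2
        rwa [LinearMap.mem_ker, LinearMap.sub_apply, LinearMap.smul_apply, LinearMap.id_apply,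
          sub_eq_zero] at this
      · obtain ⟨d, hd⟩ := hs a ha
        exact ⟨d, fun y hy => hd y (Submodule.mem_inf.1 hy).1⟩

/-- in a finite commuting family, an operator of order prime to the characteristic that is not the
identity yields a weight different from `1` there -/
theorem exists_weight_ne_one [IsAlgClosed L] [FiniteDimensional L V] [Finite A] (R : A → End L V)
    (hcomm : ∀ a b, R a * R b = R b * R a) (a₀ : A) (n : ℕ) (hn : (n : L) ≠ 0)
    (hpow : R a₀ ^ n = 1) (hne : R a₀ ≠ 1) : ∃ χ : A → L, IsWeight R χ ∧ χ a₀ ≠ 1 := by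
  classical
  have : Fintype A := Fintype.ofFinite A
  set W : Submodule L V := LinearMap.range (R a₀ - 1) with hW
  have hWne : W ≠ ⊥ := by
    rw [hW, Ne, LinearMap.range_eq_bot]
    exact sub_ne_zero.2 hne
  have hinv : ∀ a, ∀ x ∈ W, R a x ∈ W := by
    rintro a x ⟨y, rfl⟩
    refine ⟨R a y, ?_⟩
    have : R a * (R a₀ - 1) = (R a₀ - 1) * R a := by
      rw [mul_sub, sub_mul, hcomm, mul_one, one_mul]
    rw [← Module.End.mul_apply, ← this, Module.End.mul_apply]
  obtain ⟨W', hle, hne', -, hsc⟩ := exists_common_eigen R hcomm W hWne hinv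
    (Finset.univ : Finset A).toList
  choose χ hχ using fun a => hsc a (Finset.mem_toList.2 (Finset.mem_univ a))
  obtain ⟨x, hx, hx0⟩ := (Submodule.ne_bot_iff _).1 hne'
  refine ⟨χ, ⟨x, hx0, fun a => hχ a x hx⟩, fun h1 => hx0 ?_⟩
  obtain ⟨y, hy⟩ := hle hx
  rw [LinearMap.sub_apply, Module.End.one_apply, sub_eq_iff_eq_add] at hy
  have hfix : R a₀ x = x := by rw [hχ a₀ x hx, h1, one_smul]
  have key : ∀ k : ℕ, (R a₀ ^ k) y = y + (k : L) • x := by
    intro k
    induction k with
    | zero => simp
    | succ k ih =>
      rw [pow_succ', Module.End.mul_apply, ih, map_add, map_smul, hfix, hy, Nat.cast_succ]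
      module
  have hk := key n
  rw [hpow, Module.End.one_apply] at hk
  exact (smul_eq_zero.1 (left_eq_add.1 hk)).resolve_left hn

/-- a dual of a finite abelian group has at most as many elements as the group -/
theorem character_eq_comp {G : Type*} [AddCommGroup G] [Fintype G] (ψ : G → AddChar G L)
    (hψ : Function.Injective ψ) (χ : AddChar G L) : ∃ b, ψ b = χ := by
  classical
  have hle : ∀ s : Finset (AddChar G L), s.card ≤ Fintype.card G := by
    intro s
    have h := (linearIndependent_monoidHom (Multiplicative G) L).comp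
      (fun x : s => (x.1.toMonoidHom : Multiplicative G →* L))
      (fun x y hxy => Subtype.ext (DFunLike.ext _ _ fun a =>
        (DFunLike.congr_fun hxy (Multiplicative.ofAdd a) :)))
    simpa using h.fintype_card_le_finrank (R := L)
  by_contra! h
  have h1 := hle (insert χ ((Finset.univ : Finset G).image ψ))
  rw [Finset.card_insert_of_notMem, Finset.card_image_of_injective _ hψ, Finset.card_univ] at h1
  · omega
  · simp [h]

end Cfsg.Agent.Weights
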