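import Cfsg.Agent.Weights.Basic

/-!
Weights of an elementary abelian subgroup in a linear representation over an arbitrary field,
after extending scalars to the algebraic closure.
-/

namespace Cfsg.Agent.Weights

open Matrix

/-- a representation over `K` as endomorphisms over the algebraic closure -/
noncomputable def closureRep {G : Type*} [Group G] {K : Type*} [Field K] {d : ℕ}
    (ρ : G →* GL (Fin d) K) : G →* Module.End (AlgebraicClosure K) (Fin d → AlgebraicClosure K) :=
  (Matrix.toLinAlgEquiv' : Matrix (Fin d) (Fin d) (AlgebraicClosure K) ≃ₐ[AlgebraicClosure K]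
      Module.End (AlgebraicClosure K) (Fin d → AlgebraicClosure K)).toMonoidHom.comp
    ((Units.coeHom (Matrix (Fin d) (Fin d) (AlgebraicClosure K))).comp
      ((GeneralLinearGroup.map (algebraMap K (AlgebraicClosure K))).comp ρ))

theorem closureRep_eq_one_iff {G : Type*} [Group G] {K : Type*} [Field K] {d : ℕ}
    (ρ : G →* GL (Fin d) K) (g : G) : closureRep ρ g = 1 ↔ g ∈ ρ.ker := by
  rw [MonoidHom.mem_ker]
  refine ⟨fun h => ?_, fun h => by simp [closureRep, h]⟩
  have h1 : (GeneralLinearGroup.map (algebraMap K (AlgebraicClosure K)) (ρ g)).1 = 1 := by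
    apply Matrix.toLinAlgEquiv'.injective
    rw [map_one]
    exact h
  apply Units.ext
  ext i j
  have h2 := congrFun (congrFun h1 i) j
  rcases eq_or_ne i j with rfl | hij
  · simpa using h2
  · simpa [hij] using h2

theorem closureRep_injective {G : Type*} [Group G] {K : Type*} [Field K] {d : ℕ}
    (ρ : G →* GL (Fin d) K) (g : G) : Function.Injective (closureRep ρ g) := by
  intro x y h
  have h1 := congrArg (closureRep ρ g⁻¹) h
  simpa [← Module.End.mul_apply, ← map_mul] using h1

/-- a prime different from the characteristic is nonzero -/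
theorem natCast_ne_zero_of_ringChar_ne {K F : Type*} [Field K] [Field F] [Finite F]
    (hK : ringChar K ≠ ringChar F) : (ringChar F : AlgebraicClosure K) ≠ 0 := by
  have hp : (ringChar F).Prime := CharP.char_is_prime F (ringChar F)
  intro h
  have h0 : (ringChar F : K) = 0 := by
    apply (algebraMap K (AlgebraicClosure K)).injective
    rw [map_natCast, map_zero, h]
  have hdvd := ringChar.dvd h0
  rcases (Nat.dvd_prime hp).1 hdvd with h1 | h1
  · exact CharP.ringChar_ne_one h1
  · exact hK h1

variable {G : Type*} [Group G] {A : Type*} [AddCommGroup A] {F K : Type*} [Field F] [Field K]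

theorem weight_addChar {V : Type*} [AddCommGroup V] {L : Type*} [Field L] [Module L V]
    (R : G →* Module.End L V) (t : A → G) (ht : ∀ a b, t (a + b) = t a * t b) (χ : A → L)
    (h : IsWeight (fun a => R (t a)) χ) : ∃ φ : AddChar A L, ⇑φ = χ := by
  obtain ⟨v, hv0, hv⟩ := h
  have ht0 : t 0 = 1 := by simpa using ht 0 0
  refine ⟨⟨χ, ?_, fun a b => ?_⟩, rfl⟩
  · have h1 := hv 0
    simp only [ht0, map_one, Module.End.one_apply] at h1
    have h2 : (χ 0 - 1) • v = 0 := by rw [sub_smul, one_smul, ← h1, sub_self]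
    exact sub_eq_zero.1 ((smul_eq_zero.1 h2).resolve_right hv0)
  · have h1 := hv (a + b)
    simp only [ht, map_mul, Module.End.mul_apply, hv, map_smul, smul_smul] at h1
    have h2 : (χ (a + b) - χ a * χ b) • v = 0 := by rw [sub_smul, ← h1, mul_comm, sub_self]
    exact sub_eq_zero.1 ((smul_eq_zero.1 h2).resolve_right hv0)

theorem exists_weight_char [Finite A] [Finite F] [Module F A] (hK : ringChar K ≠ ringChar F) {d : ℕ}
    (ρ : G →* GL (Fin d) K) (t : A → G) (ht : ∀ a b, t (a + b) = t a * t b) (a₀ : A)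
    (ha₀ : t a₀ ∉ ρ.ker) :
    ∃ φ : AddChar A (AlgebraicClosure K),
      IsWeight (fun a => closureRep ρ (t a)) ⇑φ ∧ φ a₀ ≠ 1 := by
  have hcomm : ∀ a b, t a * t b = t b * t a := fun a b => by rw [← ht, ← ht, add_comm]
  have hpow : ∀ k : ℕ, t a₀ ^ k = t (k • a₀) := by
    intro k
    induction k with
    | zero => simpa using (show t 0 = 1 by simpa using ht 0 0).symm
    | succ k ih => rw [pow_succ, ih, ← ht, succ_nsmul]
  have hp : (ringChar F) • a₀ = 0 := by
    rw [← Nat.cast_smul_eq_nsmul F, ringChar.Nat.cast_ringChar, zero_smul]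
  obtain ⟨χ, hχ, hχ1⟩ := exists_weight_ne_one (fun a => closureRep ρ (t a))
    (fun a b => by rw [← map_mul, ← map_mul, hcomm]) a₀ (ringChar F)
    (natCast_ne_zero_of_ringChar_ne hK)
    (by rw [← map_pow, hpow, hp, show t 0 = 1 by simpa using ht 0 0, map_one])
    (fun h => ha₀ ((closureRep_eq_one_iff ρ _).1 h))
  obtain ⟨φ, rfl⟩ := weight_addChar (closureRep ρ) t ht χ hχ
  exact ⟨φ, hχ, hχ1⟩

theorem isWeight_conj {d : ℕ} (ρ : G →* GL (Fin d) K) (t : A → G) {χ : A → AlgebraicClosure K}
    (h : IsWeight (fun a => closureRep ρ (t a)) χ) (g : G) (σ : A → A)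
    (hσ : ∀ a, t a * g = g * t (σ a)) : IsWeight (fun a => closureRep ρ (t a)) (χ ∘ σ) :=
  h.transport (closureRep ρ g) (closureRep_injective ρ g) σ
    (fun a => by rw [← map_mul, ← map_mul, hσ])

end Cfsg.Agent.Weights
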